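import Groth.Agent.MeroLib.Effective
import Groth.Agent.WeakAssLib.Regular

/-!
Effective divisors supported at finitely many closed points; curves (closed points of codimension one).
-/

set_option autoImplicit false
set_option backward.isDefEq.respectTransparency false
set_option linter.style.haveILetI false

universe u

open CategoryTheory AlgebraicGeometry TopologicalSpace Opposite
open Groth.Agent.MeroLib

noncomputable section

namespace Groth.Agent.CurveDiv

open Mero

variable {C : Scheme.{u}}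

/-- On a curve every point with a proper generisation is closed. -/
theorem closed_of_gen [IsNoetherian C]
    (hC : ∀ x : C, IsClosed ({x} : Set C) → ringKrullDim (C.presheaf.stalk x) = 1)
    {y z : C} (h : y ⤳ z) (hne : y ≠ z) : IsClosed ({z} : Set C) := by
  by_contra hcl
  obtain ⟨c, hc, hcc⟩ := (isClosed_closure (s := ({z} : Set C))).exists_closed_singleton
    ⟨z, subset_closure rfl⟩
  have hzc : z ⤳ c := specializes_iff_mem_closure.2 hc
  have hne2 : z ≠ c := fun e => hcl (by rw [e]; exact hcc)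
  obtain ⟨W, hW, hcW, -⟩ := exists_isAffineOpen_mem_and_subset (show c ∈ (⊤ : C.Opens) from trivial)
  haveI : IsNoetherianRing Γ(C, W) := IsLocallyNoetherian.component_noetherian ⟨W, hW⟩
  have hzW : z ∈ W := hzc.mem_open W.2 hcW
  have hyW : y ∈ W := h.mem_open W.2 hzW
  have key : ∀ (a b : C) (ha : a ∈ W) (hb : b ∈ W), a ⤳ b → a ≠ b →
      (hW.primeIdealOf ⟨a, ha⟩).asIdeal.height < (hW.primeIdealOf ⟨b, hb⟩).asIdeal.height := by
    intro a b ha hb hab hne
    haveI := (hW.primeIdealOf ⟨a, ha⟩).isPrime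
    haveI := (hW.primeIdealOf ⟨b, hb⟩).isPrime
    refine Ideal.height_strict_mono_of_isPrime_of_isPrime (lt_of_le_of_ne ?_ fun e => hne ?_)
    · refine (PrimeSpectrum.le_iff_specializes _ _).2 (hW.fromSpec.isOpenEmbedding.isInducing.specializes_iff.1 ?_)
      rw [hW.fromSpec_primeIdealOf ⟨a, ha⟩, hW.fromSpec_primeIdealOf ⟨b, hb⟩]
      exact hab
    · have := congrArg hW.fromSpec (PrimeSpectrum.ext e)
      rwa [hW.fromSpec_primeIdealOf ⟨a, ha⟩, hW.fromSpec_primeIdealOf ⟨b, hb⟩] at this
  have h1 := key y z hyW hzW h hne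
  have h2 := key z c hzW hcW hzc hne2
  letI := TopCat.Presheaf.algebra_section_stalk C.presheaf (⟨c, hcW⟩ : W)
  haveI := hW.isLocalization_stalk ⟨c, hcW⟩
  haveI := (hW.primeIdealOf ⟨c, hcW⟩).isPrime
  have hd := IsLocalization.AtPrime.ringKrullDim_eq_height (hW.primeIdealOf ⟨c, hcW⟩).asIdeal
    (↑(C.presheaf.stalk c) : Type u)
  rw [hC c hcc] at hd
  have h3 : (hW.primeIdealOf ⟨c, hcW⟩).asIdeal.height = 1 := by exact_mod_cast hd.symm
  rw [h3, Order.lt_one_iff_nonpos, nonpos_iff_eq_zero] at h2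
  rw [h2] at h1
  exact not_lt_zero h1

/-- A locally closed subset all of whose points are closed is finite. -/
theorem finite_of_forall_isClosed [IsNoetherian C] (W O : C.Opens)
    (h : ∀ z : C, z ∈ W → z ∉ O → IsClosed ({z} : Set C)) : {z : C | z ∈ W ∧ z ∉ O}.Finite := by
  classical
  obtain ⟨S, hSf, -, hSi, hSu⟩ := NoetherianSpace.exists_finite_set_isClosed_irreducible
    (s := closure {z : C | z ∈ W ∧ z ∉ O}) isClosed_closure
  have hsub : {z : C | z ∈ W ∧ z ∉ O} ⊆ ⋃ T ∈ S, {z : C | IsGenericPoint z (closure T)} := by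
    rintro z ⟨hzW, hzO⟩
    obtain ⟨T, hT, hzT⟩ : z ∈ ⋃₀ S := hSu ▸ subset_closure ⟨hzW, hzO⟩
    refine Set.mem_iUnion₂.2 ⟨T, hT, ?_⟩
    have hg := (hSi T hT).isGenericPoint_genericPoint_closure
    have hsp := hg.specializes (subset_closure hzT)
    have hgW : (hSi T hT).genericPoint ∈ W := hsp.mem_open W.2 hzW
    have hgO : (hSi T hT).genericPoint ∉ O := fun hgO => by
      have h1 : (hSi T hT).genericPoint ∈ closure {z : C | z ∈ W ∧ z ∉ O} := by
        refine closure_minimal ?_ isClosed_closure hg.mem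
        exact (Set.subset_sUnion_of_mem hT).trans hSu.symm.subset
      obtain ⟨w, hw, hwS⟩ := mem_closure_iff.1 h1 _ O.2 hgO
      exact hwS.2 hw
    have hcl := h _ hgW hgO
    have e : z = (hSi T hT).genericPoint := by
      have := specializes_iff_mem_closure.1 hsp
      rwa [hcl.closure_eq] at this
    rw [e]
    exact hg
  exact (hSf.biUnion fun T _ => Set.Subsingleton.finite fun a ha b hb => ha.eq hb).subset hsub

/-- A regular section is invertible at the points that are not closed. -/
theorem isClosed_of_nonunit [IsNoetherian C]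
    (hC : ∀ x : C, IsClosed ({x} : Set C) → ringKrullDim (C.presheaf.stalk x) = 1)
    {z : C} {t : C.presheaf.stalk z} (ht : t ∈ nonZeroDivisors (C.presheaf.stalk z)) (hu : ¬ IsUnit t) :
    IsClosed ({z} : Set C) := by
  by_contra hcl
  refine hu (WeakAssLib.isUnit_of_mem_nonZeroDivisors_maximalPt (fun y hy => ?_) ht)
  by_contra hne
  exact hcl (closed_of_gen hC hy hne)

/-- The class of a regular germ. -/
def cls {x : C} (a : regStalk C x) : Germ C x :=
  QuotientGroup.mk (IsLocalization.map_units (KStalk C x) a).unit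

theorem cls_eq_one_iff {x : C} (a : regStalk C x) : cls a = 1 ↔ IsUnit (a : C.presheaf.stalk x) := by
  rw [cls, eq_comm, ← QuotientGroup.mk_one, mk_eq_mk_iff]
  constructor
  · rintro ⟨c, hc, h⟩
    rw [IsUnit.unit_spec, Units.val_one, one_mul] at h
    have : (a : C.presheaf.stalk x) = c := iK_inj x h
    rwa [this]
  · intro h
    exact ⟨a, h, by rw [IsUnit.unit_spec, Units.val_one, one_mul]⟩

/-- An effective divisor with prescribed regular germs at finitely many points. -/
theorem exists_pointDiv [IsNoetherian C]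
    (hC : ∀ x : C, IsClosed ({x} : Set C) → ringKrullDim (C.presheaf.stalk x) = 1)
    (S : Set C) (hS : S.Finite) (hcl : ∀ c ∈ S, IsClosed ({c} : Set C))
    (t : ∀ c : C, regStalk C c) :
    ∃ D : Divisor C, IsEffective D ∧ (∀ c ∈ S, D.1 c = cls (t c)) ∧ ∀ x, x ∉ S → D.1 x = 1 := by
  classical
  let φ : ∀ x : C, Germ C x := fun x => if x ∈ S then cls (t x) else 1
  have hφ : φ ∈ divisorGroup C := by
    intro x
    by_cases hx : x ∈ S
    · obtain ⟨U, hxU, f, hf, hfx⟩ := (t x).2
      let T : Set C := (S ∪ {z : C | z ∈ U ∧ z ∉ C.basicOpen f}) \ {x}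
      have hTf : T.Finite := (hS.union (finite_of_forall_isClosed U (C.basicOpen f) fun z hzU hzf =>
        isClosed_of_nonunit hC (hf ⟨z, hzU⟩) fun hu => hzf ((Scheme.mem_basicOpen _ f z hzU).2 hu))).sdiff
      have hTc : IsClosed T := by
        rw [← Set.biUnion_of_singleton T]
        refine hTf.isClosed_biUnion fun z hz => ?_
        rcases hz.1 with hzS | ⟨hzU, hzf⟩
        · exact hcl z hzS
        · exact isClosed_of_nonunit hC (hf ⟨z, hzU⟩) fun hu => hzf ((Scheme.mem_basicOpen _ f z hzU).2 hu)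
      let V : C.Opens := U ⊓ ⟨Tᶜ, hTc.isOpen_compl⟩
      have hxV : x ∈ V := ⟨hxU, fun h => h.2 rfl⟩
      let f' := C.presheaf.map (homOfLE (inf_le_left : V ≤ U)).op f
      have hu : IsUnit (toK C V f') := isUnit_of_regular _ fun y =>
        ⟨V, le_rfl, f', 1, y.2, regSub_res _ hf, one_mem _, fun w => by rw [map_one, map_one, mul_one, toK_val]⟩
      refine ⟨V, hxV, hu.unit, fun y => ?_⟩
      show φ y.1 = _
      have hval : ((uval hu.unit y : (KStalk C y.1)ˣ) : KStalk C y.1) = iK y.1 (gO y.1 y.2.1 f) := by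
        rw [uval_val, IsUnit.unit_spec, toK_val]
        exact congrArg (iK y.1) (C.presheaf.germ_res_apply _ _ _ _)
      rw [germOf_eq]
      by_cases hy : y.1 = x
      · rw [show y = ⟨x, hxV⟩ from Subtype.ext hy]
        have hval := congrArg id hval
        rw [show y = ⟨x, hxV⟩ from Subtype.ext hy] at hval
        simp only [φ, if_pos hx, cls]
        refine congrArg _ (Units.ext ?_)
        rw [IsUnit.unit_spec]
        exact ((hval).trans (congrArg (iK x) hfx)).symm
      · have hyT : y.1 ∉ T := y.2.2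
        have hyS : y.1 ∉ S := fun h => hyT ⟨Or.inl h, hy⟩
        have hyf : y.1 ∈ C.basicOpen f := by
          by_contra h
          exact hyT ⟨Or.inr ⟨y.2.1, h⟩, hy⟩
        simp only [φ, if_neg hyS]
        rw [← QuotientGroup.mk_one, mk_eq_mk_iff]
        exact ⟨_, (Scheme.mem_basicOpen _ f y.1 y.2.1).1 hyf, by rw [hval, Units.val_one, one_mul]⟩
    · refine ⟨⟨Sᶜ, (Set.biUnion_of_singleton S ▸ hS.isClosed_biUnion hcl : IsClosed S).isOpen_compl⟩, hx, 1,
        fun y => ?_⟩
      show φ y.1 = _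
      simp only [φ, if_neg y.2]
      rw [germOf, map_one, QuotientGroup.mk_one]
  refine ⟨⟨φ, hφ⟩, fun x => ?_, fun c hc => if_pos hc, fun x hx => if_neg hx⟩
  by_cases hx : x ∈ S
  · exact ⟨t x, if_pos hx⟩
  · refine ⟨1, (if_neg hx).trans ?_⟩
    exact ((cls_eq_one_iff (1 : regStalk C x)).2 isUnit_one).symm

end Groth.Agent.CurveDiv
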